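import Groth.Agent.QuotLib.Sep
import Groth.Agent.QuotLib.Props
import Groth.Agent.SweepSix.NormSect
import Groth.Prelude.Def_Pi1
import Mathlib.FieldTheory.Galois.IsGaloisGroup
import Mathlib.RingTheory.DedekindDomain.Basic
import Mathlib.RingTheory.Flat.TorsionFree
import Mathlib.AlgebraicGeometry.Morphisms.FlatRank
import Mathlib.RingTheory.RegularLocalRing.Defs

/-!
# Affine quotients of normal integral schemes by finite groups
-/

set_option autoImplicit false
set_option linter.style.haveILetI false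
set_option backward.isDefEq.respectTransparency false
set_option backward.isDefEq.respectTransparency.types false

universe u

open CategoryTheory AlgebraicGeometry TopologicalSpace

noncomputable section

namespace CurveQuotLib

section Ring

variable {B A : Type u} [CommRing B] [CommRing A] [Algebra B A] [IsDomain A] [IsIntegrallyClosed A]
  {G : Type u} [Group G] [MulSemiringAction G A]

theorem isDomain_base (hinj : Function.Injective (algebraMap B A)) : IsDomain B :=
  hinj.isDomain _

/-- The invariants of a normal domain are normal. -/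
theorem isIntegrallyClosed_base (hinj : Function.Injective (algebraMap B A))
    (hinv : ∀ (g : G) (b : B), g • algebraMap B A b = algebraMap B A b)
    (hrange : ∀ a : A, (∀ g : G, g • a = a) → a ∈ Set.range (algebraMap B A)) : IsIntegrallyClosed B := by
  haveI := isDomain_base (A := A) hinj
  let K := FractionRing B
  let L := FractionRing A
  rw [isIntegrallyClosed_iff K]
  intro x hx
  obtain ⟨a, b, hb, rfl⟩ := IsFractionRing.div_surjective (A := B) x
  let ι : B →+* L := (algebraMap A L).comp (algebraMap B A)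
  have hι : Function.Injective ι := (IsFractionRing.injective A L).comp hinj
  let f : K →+* L := IsFractionRing.lift hι
  have hf : ∀ z : B, f (algebraMap B K z) = algebraMap A L (algebraMap B A z) :=
    fun z => IsFractionRing.lift_algebraMap hι z
  obtain ⟨q, hq, hq0⟩ := hx
  have hint : IsIntegral A (f (algebraMap B K a / algebraMap B K b)) := by
    refine ⟨q.map (algebraMap B A), hq.map _, ?_⟩
    rw [Polynomial.eval₂_map]
    have h1 := congrArg f hq0
    rw [map_zero, Polynomial.hom_eval₂] at h1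
    rw [show (algebraMap A L).comp (algebraMap B A) = f.comp (algebraMap B K) from
      RingHom.ext fun z => (hf z).symm]
    exact h1
  obtain ⟨c, hc⟩ := IsIntegrallyClosed.algebraMap_eq_of_integral hint
  have hb0 : algebraMap B A b ≠ 0 := (map_ne_zero_iff _ hinj).2 (nonZeroDivisors.ne_zero hb)
  rw [map_div₀, hf, hf, eq_div_iff ((map_ne_zero_iff _ (IsFractionRing.injective A L)).2 hb0), ← map_mul] at hc
  have hc' : c * algebraMap B A b = algebraMap B A a := IsFractionRing.injective A L hc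
  obtain ⟨d, rfl⟩ := hrange c fun g => mul_right_cancel₀ hb0 (by
    have h := congrArg (g • ·) hc'
    simp only [smul_mul', hinv] at h
    rw [h, hc'])
  rw [← map_mul] at hc'
  refine ⟨d, ?_⟩
  rw [eq_div_iff ((map_ne_zero_iff _ (IsFractionRing.injective B K)).2 (nonZeroDivisors.ne_zero hb)),
    ← map_mul, hinj hc']

end Ring

variable {X Y : Scheme.{u}} {G : Type u} [Group G] [Finite G] {ρ : G →* Aut X} {p : X ⟶ Y}

/-- Regularity, flatness and rank for the quotient of an affine integral normal scheme of dimension one. -/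
theorem affine_main [IsAffine X] [IsAffine Y] [IsIntegral X] [IsFinite p] [IsLocallyNoetherian Y]
    (hp : SGA1.IsQuot ρ p) (hX : Pi1.IsNormalScheme X) (hdim : topologicalKrullDim Y ≤ 1)
    (hfaith : ∀ g : G, (ρ g).hom = 𝟙 X → g = 1) :
    (∀ y : Y, IsRegularLocalRing (Y.presheaf.stalk y)) ∧ Flat p ∧ ∀ y : Y, p.finrank y = Nat.card G := by
  haveI := hp.affine
  letI := p.appTop.hom.toAlgebra
  letI := QuotLib.actTop ρ
  have hinj : Function.Injective (algebraMap Γ(Y, ⊤) Γ(X, ⊤)) := hp.injective ⊤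
  haveI : Nonempty (⊤ : X.Opens) := ⟨⟨genericPoint X, trivial⟩⟩
  haveI : IsDomain Γ(X, ⊤) := inferInstance
  haveI : IsIntegrallyClosed Γ(X, ⊤) := SweepSix.NormSect.isIntegrallyClosed_of_stalk (isAffineOpen_top X) hX
  haveI : IsDomain Γ(Y, ⊤) := hinj.isDomain _
  have hrange : ∀ a : Γ(X, ⊤), (∀ g : G, g • a = a) → a ∈ Set.range (algebraMap Γ(Y, ⊤) Γ(X, ⊤)) := fun a ha =>
    QuotLib.appTop_mem_range hp a fun g => by
      have h := ha g⁻¹
      change (ρ g⁻¹⁻¹).hom.appTop.hom a = a at h
      rwa [inv_inv] at h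
  have hinv : ∀ (g : G) (b : Γ(Y, ⊤)), g • algebraMap Γ(Y, ⊤) Γ(X, ⊤) b = algebraMap Γ(Y, ⊤) Γ(X, ⊤) b := by
    intro g b
    show ((ρ g⁻¹).hom.appTop.hom) (p.appTop.hom b) = p.appTop.hom b
    rw [← CommRingCat.comp_apply, ← Scheme.Hom.comp_appTop, hp.inv]
  haveI : IsIntegrallyClosed Γ(Y, ⊤) := isIntegrallyClosed_base hinj hinv hrange
  haveI : IsNoetherianRing Γ(Y, ⊤) := IsLocallyNoetherian.component_noetherian ⟨⊤, isAffineOpen_top Y⟩
  haveI : Ring.KrullDimLE 1 Γ(Y, ⊤) := by
    rw [Ring.krullDimLE_iff, ← PrimeSpectrum.topologicalKrullDim_eq_ringKrullDim]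
    exact ((Y.isoSpec.hom.homeomorph).isHomeomorph.topologicalKrullDim_eq _).symm.trans_le hdim
  haveI : Ring.DimensionLEOne Γ(Y, ⊤) := ⟨fun hp' hpp => hpp.isMaximal_of_ne_bot hp'⟩
  haveI : IsDedekindRing Γ(Y, ⊤) := { }
  haveI : IsDedekindDomain Γ(Y, ⊤) := { }
  haveI : Module.IsTorsionFree Γ(Y, ⊤) Γ(X, ⊤) := Module.isTorsionFree_iff_algebraMap_injective.2 hinj
  haveI hflat : Module.Flat Γ(Y, ⊤) Γ(X, ⊤) := inferInstance
  haveI hpflat : Flat p := (HasRingHomProperty.iff_of_isAffine (P := @Flat)).2 hflat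
  haveI : Module.Finite Γ(Y, ⊤) Γ(X, ⊤) := IsFinite.finite_app p ⊤ (isAffineOpen_top Y)
  haveI : FaithfulSMul G Γ(X, ⊤) := ⟨fun {g h} hgh => by
    have key : ∀ g : G, (∀ a : Γ(X, ⊤), g • a = a) → g = 1 := by
      intro g hg
      refine inv_eq_one.1 (hfaith g⁻¹ (ext_of_isAffine ?_))
      rw [Scheme.Hom.id_appTop]
      exact CommRingCat.hom_ext (RingHom.ext hg)
    have h1 : h⁻¹ * g = 1 := key _ fun a => by rw [mul_smul, hgh, inv_smul_smul]
    exact (inv_mul_eq_one.1 h1).symm⟩
  haveI : SMulCommClass G Γ(Y, ⊤) Γ(X, ⊤) := ⟨fun g b a => by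
    rw [Algebra.smul_def, Algebra.smul_def, smul_mul', hinv]⟩
  haveI : IsGaloisGroup G Γ(Y, ⊤) Γ(X, ⊤) :=
    { faithful := inferInstance
      commutes := inferInstance
      isInvariant := ⟨hrange⟩ }
  haveI : FaithfulSMul Γ(Y, ⊤) Γ(X, ⊤) := (faithfulSMul_iff_algebraMap_injective _ _).2 hinj
  refine ⟨fun y => ?_, hpflat, fun y => ?_⟩
  · letI := Y.presheaf.algebra_section_stalk (⟨y, trivial⟩ : (⊤ : Y.Opens))
    haveI := (isAffineOpen_top Y).isLocalization_stalk ⟨y, trivial⟩
    let q := ((isAffineOpen_top Y).primeIdealOf ⟨y, trivial⟩).asIdeal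
    haveI : IsRegularLocalRing (Localization.AtPrime q) := IsRegularRing.isRegularLocalRing_localization q
    exact IsRegularLocalRing.of_ringEquiv
      (IsLocalization.algEquiv q.primeCompl (Localization.AtPrime q) (Y.presheaf.stalk y)).toRingEquiv
  · haveI : IsFinite (Spec.map p.appTop) := IsFinite.SpecMap_iff _ |>.2 (RingHom.finite_algebraMap.2 inferInstance)
    haveI : Flat (Spec.map p.appTop) := Flat.SpecMap_iff.2 hflat
    have hsq : IsPullback X.isoSpec.hom p (Spec.map p.appTop) Y.isoSpec.hom :=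
      IsPullback.of_horiz_isIso ⟨Scheme.isoSpec_hom_naturality p⟩
    rw [Scheme.Hom.finrank_of_isPullback _ _ _ _ hsq,
      IsGaloisGroup.card_eq_finrank' G Γ(Y, ⊤) Γ(X, ⊤)]
    exact (Scheme.Hom.finrank_SpecMap_algebraMap Γ(Y, ⊤) Γ(X, ⊤) _).trans
      ((Ideal.finrank_fiber_eq_rankAtStalk _).symm.trans (Ideal.finrank_fiber_eq_finrank _))

end CurveQuotLib
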