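import Groth.Agent.CurveQuotLib.Affine
import Groth.Agent.QuotLib.BaseChange
import Groth.Agent.QuotLib.Local
import Groth.Agent.CurveVBLib.Integral
import Groth.Agent.CurveH0Lib.Smooth
import Groth.Agent.AbSchLib.DimFinite
import Groth.Agent.FibDimLib.FieldExt
import Groth.Agent.NormalLib.Regular
import Mathlib.AlgebraicGeometry.Morphisms.LocalFlatDescent
import Mathlib.AlgebraicGeometry.Geometrically.Connected

/-!
# Quotients of smooth curves by finite groups
-/

set_option autoImplicit false
set_option linter.style.haveILetI false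
set_option backward.isDefEq.respectTransparency false
set_option backward.isDefEq.respectTransparency.types false

universe u

open CategoryTheory CategoryTheory.Limits AlgebraicGeometry TopologicalSpace

noncomputable section

namespace CurveQuotLib

variable {X Y : Scheme.{u}} {G : Type u} [Group G] [Finite G] {ρ : G →* Aut X} {π : X ⟶ Y}

/-- A quotient of an integral normal scheme with dimension at most one. -/
theorem regular_flat_rank {S : Scheme.{u}} (f : X ⟶ S) [IsSeparated f] (hf : ∀ g : G, (ρ g).hom ≫ f = f)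
    [IsIntegral X] [IsFinite π] [IsLocallyNoetherian Y] (hp : SGA1.IsQuot ρ π) (hX : Pi1.IsNormalScheme X)
    (hdim : topologicalKrullDim Y ≤ 1) (hρ : Function.Injective ρ) :
    (∀ y : Y, IsRegularLocalRing (Y.presheaf.stalk y)) ∧ Flat π ∧ ∀ y : Y, π.finrank y = Nat.card G := by
  have key : ∀ U : Y.Opens, IsAffineOpen U → (∃ y, y ∈ U) →
      (∀ y : U.toScheme, IsRegularLocalRing (U.toScheme.presheaf.stalk y)) ∧ Flat (π ∣_ U) ∧
        ∀ y : U.toScheme, (π ∣_ U).finrank y = Nat.card G := by
    intro U hU ⟨y, hy⟩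
    haveI : IsAffine U.toScheme := hU
    haveI : IsAffine (π ⁻¹ᵁ U).toScheme := QuotLib.isAffine_preimage hp hU
    obtain ⟨x, hx⟩ := QuotLib.surjective hp y
    haveI : Nonempty (π ⁻¹ᵁ U).toScheme := ⟨⟨x, show π x ∈ U from hx ▸ hy⟩⟩
    haveI : IsIntegral (π ⁻¹ᵁ U).toScheme := isIntegral_of_isOpenImmersion (π ⁻¹ᵁ U).ι
    refine affine_main (QuotLib.isQuot_restrictAct hp U) (fun z => ?_) ?_ fun g hg => ?_
    · let e := (asIso ((π ⁻¹ᵁ U).ι.stalkMap z)).commRingCatIsoToRingEquiv
      obtain ⟨_, _⟩ := hX ((π ⁻¹ᵁ U).ι z)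
      exact ⟨e.symm.toMulEquiv.isDomain _, IsIntegrallyClosed.of_equiv e⟩
    · exact (U.ι.isOpenEmbedding.isInducing.topologicalKrullDim_le).trans hdim
    · apply hρ
      rw [map_one]
      refine Iso.ext ?_
      haveI : IsDominant (π ⁻¹ᵁ U).ι := ⟨by
        rw [DenseRange, Scheme.Opens.range_ι]
        exact (π ⁻¹ᵁ U).2.dense ⟨x, show π x ∈ U from hx ▸ hy⟩⟩
      refine ext_of_isDominant_of_isSeparated f (by rw [hf]; exact (Category.id_comp f).symm) (π ⁻¹ᵁ U).ι ?_
      rw [← QuotLib.restrictAct_ι hp.inv U g, hg, Category.id_comp]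
      exact (Category.comp_id _).symm
  refine ⟨fun y => ?_, ?_, fun y => ?_⟩
  · obtain ⟨U, hU, hy, -⟩ := QuotLib.exists_affine (show y ∈ (⊤ : Y.Opens) from trivial)
    haveI := (key U hU ⟨y, hy⟩).1 ⟨y, hy⟩
    exact IsRegularLocalRing.of_ringEquiv (asIso (U.ι.stalkMap ⟨y, hy⟩)).commRingCatIsoToRingEquiv.symm
  · refine IsZariskiLocalAtTarget.of_iSup_eq_top (P := @Flat) (fun U : Y.affineOpens => U.1)
      (iSup_affineOpens_eq_top Y) fun U => ?_
    by_cases hne : ∃ y, y ∈ U.1
    · exact (key U.1 U.2 hne).2.1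
    · haveI : IsEmpty U.1.toScheme := ⟨fun y => hne ⟨y.1, y.2⟩⟩
      haveI : IsEmpty (π ⁻¹ᵁ U.1).toScheme := ⟨fun x => hne ⟨π x.1, x.2⟩⟩
      infer_instance
  · obtain ⟨U, hU, hy, -⟩ := QuotLib.exists_affine (show y ∈ (⊤ : Y.Opens) from trivial)
    obtain ⟨-, hfl, hrk⟩ := key U hU ⟨y, hy⟩
    haveI hflat : Flat π := by
      refine IsZariskiLocalAtTarget.of_iSup_eq_top (P := @Flat) (fun U : Y.affineOpens => U.1)
        (iSup_affineOpens_eq_top Y) fun U => ?_
      by_cases hne : ∃ y, y ∈ U.1
      · exact (key U.1 U.2 hne).2.1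
      · haveI : IsEmpty U.1.toScheme := ⟨fun y => hne ⟨y.1, y.2⟩⟩
        haveI : IsEmpty (π ⁻¹ᵁ U.1).toScheme := ⟨fun x => hne ⟨π x.1, x.2⟩⟩
        infer_instance
    rw [← hrk ⟨y, hy⟩]
    exact (Scheme.Hom.finrank_of_isPullback (π ⁻¹ᵁ U).ι (π ∣_ U) π U.ι
      (isPullback_morphismRestrict π U).flip (⟨y, hy⟩ : U.toScheme)).symm

theorem isNormal_of_smooth {k : Type u} [Field k] (p : X ⟶ Spec (CommRingCat.of k)) [Smooth p] :
    Pi1.IsNormalScheme X := fun x => by
  letI : X.Over (Spec (CommRingCat.of k)) := ⟨p⟩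
  haveI : Smooth (X ↘ Spec (CommRingCat.of k)) := ‹_›
  haveI := CurveVBLib.regular_stalk (k := k) x
  haveI := CommAlgDim.isDomain_of_isRegularLocalRing (X.presheaf.stalk x)
  exact ⟨inferInstance, NormalLib.isIntegrallyClosed_of_isRegularLocalRing _⟩

/-- The quotient of a smooth proper geometrically connected curve by a finite group. -/
theorem main (k : Type u) [Field k] (p : X ⟶ Spec (CommRingCat.of k)) [IsProper p] [Smooth p]
    [GeometricallyConnected p] (hX : topologicalKrullDim ↥X = 1) (hρ : Function.Injective ρ)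
    (hρk : ∀ g : G, (ρ g).hom ≫ p = p) (q : Y ⟶ Spec (CommRingCat.of k)) (hπ : π ≫ q = p)
    (hquot : SGA1.IsQuot ρ π) :
    IsProper q ∧ Smooth q ∧ GeometricallyConnected q ∧ topologicalKrullDim ↥Y = 1 ∧
      IsFinite π ∧ Flat π ∧ ∀ y : Y, π.finrank y = Nat.card G := by
  haveI := hquot.affine
  haveI hsurj : Surjective π := ⟨QuotLib.surjective hquot⟩
  subst hπ
  haveI : IsFinite π := QuotLib.isFinite_of_locallyOfFiniteType hquot q
  haveI : LocallyOfFiniteType q := QuotLib.locallyOfFiniteType_desc hquot q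
  haveI : QuasiCompact q := QuotLib.quasiCompact_desc hquot q
  haveI : IsSeparated q := QuotLib.isSeparated_desc hquot q
  haveI : UniversallyClosed q := UniversallyClosed.of_comp_surjective π q
  haveI hproper : IsProper q := { }
  haveI : IsLocallyNoetherian Y := LocallyOfFiniteType.isLocallyNoetherian q
  have hY : topologicalKrullDim ↥Y = 1 := (AbSchLib.topologicalKrullDim_eq_of_finite_surjective π).symm.trans hX
  have hXn := isNormal_of_smooth (π ≫ q)
  haveI : IsIntegral X := by
    letI : X.Over (Spec (CommRingCat.of k)) := ⟨π ≫ q⟩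
    haveI : IsProper (X ↘ Spec (CommRingCat.of k)) := ‹IsProper (π ≫ q)›
    haveI : Smooth (X ↘ Spec (CommRingCat.of k)) := ‹Smooth (π ≫ q)›
    haveI : GeometricallyConnected (X ↘ Spec (CommRingCat.of k)) := ‹GeometricallyConnected (π ≫ q)›
    exact CurveVBLib.isIntegral_of_smooth_geomConnected k
  obtain ⟨-, hflat, hrk⟩ := regular_flat_rank (π ≫ q) hρk hquot hXn hY.le hρ
  have hgc : GeometricallyConnected q := by
    refine ⟨fun K _ y Q fst snd h => ?_⟩
    haveI : ConnectedSpace ↥(pullback (π ≫ q) y) :=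
      GeometricallyConnected.geometrically_connectedSpace _ _ _ (.of_hasPullback _ _)
    let m : pullback (π ≫ q) y ⟶ Q := h.lift (pullback.fst _ _ ≫ π) (pullback.snd _ _)
      (by rw [Category.assoc, pullback.condition])
    have hm : IsPullback (pullback.fst (π ≫ q) y) m π fst :=
      IsPullback.of_bot (by rw [show m ≫ snd = pullback.snd _ _ from h.lift_snd _ _ _]; exact .of_hasPullback _ _)
        (h.lift_fst _ _ _).symm h
    haveI : Surjective m := MorphismProperty.of_isPullback (P := @Surjective) hm ‹_›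
    exact m.surjective.connectedSpace m.continuous
  refine ⟨hproper, ?_, hgc, hY, inferInstance, hflat, hrk⟩
  -- base change to the algebraic closure
  let K := AlgebraicClosure k
  let b : Spec (CommRingCat.of K) ⟶ Spec (CommRingCat.of k) := Spec.map (CommRingCat.ofHom (algebraMap k K))
  haveI : Flat b := Flat.SpecMap_iff.2 (RingHom.flat_algebraMap_iff.2 inferInstance)
  haveI : Surjective b := ⟨fun x => ⟨Classical.arbitrary _, Subsingleton.elim (α := PrimeSpectrum k) _ _⟩⟩
  haveI : QuasiCompact b := inferInstance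
  let X' := pullback (π ≫ q) b
  let π' : X' ⟶ pullback q b := pullback.lift (pullback.fst _ _ ≫ π) (pullback.snd _ _)
    (by rw [Category.assoc, pullback.condition])
  have hsq : IsPullback (pullback.fst (π ≫ q) b) π' π (pullback.fst q b) :=
    IsPullback.of_bot (by rw [show π' ≫ pullback.snd q b = pullback.snd _ _ from pullback.lift_snd _ _ _]
                          exact .of_hasPullback _ _)
      (pullback.lift_fst _ _ _).symm (.of_hasPullback q b)
  let ρ' : G →* Aut X' :=
    { toFun := fun g => asIso (pullback.map (π ≫ q) b (π ≫ q) b (ρ g).hom (𝟙 _) (𝟙 _)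
        (by rw [Category.comp_id, hρk]) (by simp))
      map_one' := Iso.ext (by
        refine pullback.hom_ext ?_ ?_ <;> simp <;> rfl)
      map_mul' := fun g h => Iso.ext (by
        refine pullback.hom_ext ?_ ?_ <;> simp [map_mul, Aut.Aut_mul_def]) }
  have h1 : ∀ g : G, (ρ' g).hom ≫ pullback.fst (π ≫ q) b = pullback.fst (π ≫ q) b ≫ (ρ g).hom :=
    fun g => pullback.lift_fst _ _ _
  have h2 : ∀ g : G, (ρ' g).hom ≫ π' = π' := fun g => by
    refine pullback.hom_ext ?_ ?_
    · simp only [π', Category.assoc, pullback.lift_fst]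
      rw [reassoc_of% (h1 g), hquot.inv]
    · simp only [π', Category.assoc, pullback.lift_snd]
      exact (pullback.lift_snd _ _ _).trans (Category.comp_id _)
  have hq' := QuotLib.isQuot_baseChange hquot hsq h1 h2
  haveI : IsFinite π' := MorphismProperty.of_isPullback (P := @IsFinite) hsq ‹_›
  haveI : IsLocallyNoetherian (pullback q b) := LocallyOfFiniteType.isLocallyNoetherian (pullback.snd q b)
  haveI : IsIntegral X' := by
    letI : X'.Over (Spec (CommRingCat.of K)) := ⟨pullback.snd (π ≫ q) b⟩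
    haveI : IsProper (X' ↘ Spec (CommRingCat.of K)) := inferInstanceAs (IsProper (pullback.snd (π ≫ q) b))
    haveI : Smooth (X' ↘ Spec (CommRingCat.of K)) := inferInstanceAs (Smooth (pullback.snd (π ≫ q) b))
    haveI : GeometricallyConnected (X' ↘ Spec (CommRingCat.of K)) :=
      inferInstanceAs (GeometricallyConnected (pullback.snd (π ≫ q) b))
    exact CurveVBLib.isIntegral_of_smooth_geomConnected K
  have hdim' : topologicalKrullDim ↥(pullback q b) ≤ 1 :=
    ((FibDimLib.topologicalKrullDim_pullback_field k K q).trans hY).le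
  have hf' : ∀ g : G, (ρ' g).hom ≫ pullback.snd (π ≫ q) b = pullback.snd (π ≫ q) b := fun g =>
    (pullback.lift_snd _ _ _).trans (Category.comp_id _)
  haveI : Surjective (pullback.fst (π ≫ q) b) := inferInstance
  haveI : Epi (pullback.fst (π ≫ q) b) := Flat.epi_of_flat_of_surjective _
  have hρ' : Function.Injective ρ' := fun g h e => hρ (Iso.ext ((cancel_epi (pullback.fst (π ≫ q) b)).1
    (by rw [← h1, ← h1, e])))
  have hs' : Smooth (pullback.snd q b) := CurveH0Lib.smooth_of_regular K _
    (regular_flat_rank (pullback.snd (π ≫ q) b) hf' hq' (isNormal_of_smooth (pullback.snd (π ≫ q) b)) hdim' hρ').1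
  exact MorphismProperty.of_pullback_snd_of_descendsAlong (P := @Smooth) (Q := @Surjective ⊓ @Flat ⊓ @QuasiCompact)
    (f := q) (g := b) ⟨⟨inferInstance, inferInstance⟩, inferInstance⟩ hs'

end CurveQuotLib
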